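import Mathlib
import Groth.Prelude.Def_EGA43

/-! Topological lemmas for generalizing maps and sets stable under generalization. -/

universe u

set_option linter.style.haveILetI false

open TopologicalSpace Set Topology

namespace Groth.Agent.H06Topo

variable {X Y : Type*} [TopologicalSpace X] [TopologicalSpace Y]

/-- In a noetherian sober space, a closed subset stable under generalization is open. -/
theorem isOpen_of_closed_genStable_noetherian [QuasiSober X] [NoetherianSpace X]
    {W : Set X} (hW : IsClosed W) (hgen : StableUnderGeneralization W) : IsOpen W := by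
  have hfin := NoetherianSpace.finite_irreducibleComponents (α := X)
  set S := {Z ∈ irreducibleComponents X | Disjoint Z W} with hS
  have hSfin : S.Finite := hfin.subset fun Z hZ => hZ.1
  have hcl : IsClosed (⋃₀ S) := by
    rw [sUnion_eq_biUnion]
    exact hSfin.isClosed_biUnion fun Z hZ => isClosed_of_mem_irreducibleComponents Z hZ.1
  have : W = (⋃₀ S)ᶜ := by
    ext w
    constructor
    · rintro hw ⟨Z, hZ, hwZ⟩
      exact Set.disjoint_left.mp hZ.2 hwZ hw
    · intro hw
      by_contra hwW
      refine hw ⟨irreducibleComponent w, ⟨irreducibleComponent_mem_irreducibleComponents w, ?_⟩,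
        mem_irreducibleComponent⟩
      rw [Set.disjoint_left]
      intro z hz hzW
      have hirr : IsIrreducible (irreducibleComponent w) := isIrreducible_irreducibleComponent
      obtain ⟨η, hη⟩ := QuasiSober.sober hirr isClosed_irreducibleComponent
      have hηW : η ∈ W := hgen (hη.specializes hz) hzW
      exact hwW ((hη.specializes mem_irreducibleComponent).mem_closed hW hηW)
  rw [this]
  exact hcl.isOpen_compl

/-- The same for locally noetherian sober spaces. -/
theorem isOpen_of_closed_genStable [QuasiSober X]
    (hloc : ∀ x : X, ∃ U : Set X, IsOpen U ∧ x ∈ U ∧ NoetherianSpace U)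
    {W : Set X} (hW : IsClosed W) (hgen : StableUnderGeneralization W) : IsOpen W := by
  rw [isOpen_iff_forall_mem_open]
  intro x hx
  obtain ⟨U, hU, hxU, hN⟩ := hloc x
  haveI := hN
  haveI : QuasiSober U := hU.isOpenEmbedding_subtypeVal.quasiSober
  have h := isOpen_of_closed_genStable_noetherian (W := (Subtype.val ⁻¹' W : Set U))
    (hW.preimage continuous_subtype_val) (hgen.preimage continuous_subtype_val)
  exact ⟨Subtype.val '' (Subtype.val ⁻¹' W : Set U), by simp,
    hU.isOpenMap_subtype_val _ h, ⟨⟨x, hxU⟩, hx, rfl⟩⟩

theorem stableUnderGeneralization_connectedComponent (x : X) :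
    StableUnderGeneralization (connectedComponent x) := by
  intro w z h hw
  have hw' : z ⤳ w := h
  have : closure ({z} : Set X) ⊆ connectedComponent w :=
    isPreconnected_singleton.closure.subset_connectedComponent hw'.mem_closure
  rw [connectedComponent_eq hw]
  exact this (subset_closure rfl)

theorem image_connectedComponent_eq [QuasiSober Y]
    (hloc : ∀ y : Y, ∃ U : Set Y, IsOpen U ∧ y ∈ U ∧ NoetherianSpace U)
    {f : X → Y} (hf : Continuous f) (hc : IsClosedMap f) (hg : GeneralizingMap f) (x : X) :
    f '' connectedComponent x = connectedComponent (f x) := by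
  refine (hf.image_connectedComponent_subset x).antisymm ?_
  have h1 : IsClosed (f '' connectedComponent x) := hc _ isClosed_connectedComponent
  have h2 : IsOpen (f '' connectedComponent x) := isOpen_of_closed_genStable hloc h1
    ((stableUnderGeneralization_connectedComponent x).image hg)
  exact IsClopen.connectedComponent_subset ⟨h1, h2⟩ ⟨x, mem_connectedComponent, rfl⟩

/-- A generalizing map onto an irreducible sober space with irreducible generic fibre has
irreducible source. -/
theorem isIrreducible_univ_of_generalizing {f : X → Y} (hg : GeneralizingMap f) {η : Y}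
    (hη : ∀ y, η ⤳ y) (h : IsIrreducible (f ⁻¹' {η})) : IsIrreducible (univ : Set X) := by
  have : closure (f ⁻¹' {η}) = univ := by
    refine eq_univ_of_forall fun x => ?_
    obtain ⟨x', hx', hfx⟩ := hg (hη (f x))
    exact closure_mono (singleton_subset_iff.mpr (by simpa using hfx)) hx'.mem_closure
  exact this ▸ h.closure

/-- The image of the generic point of a component under a generalizing map is maximal. -/
theorem closure_singleton_image_mem_irreducibleComponents [QuasiSober Y]
    {f : X → Y} (hf : Continuous f) (hg : GeneralizingMap f) {T : Set X}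
    (hT : T ∈ irreducibleComponents X) {ξ : X} (hξ : IsGenericPoint ξ T) :
    closure (f '' T) = closure {f ξ} ∧ closure {f ξ} ∈ irreducibleComponents Y := by
  constructor
  · refine le_antisymm ?_ (closure_mono (singleton_subset_iff.mpr ⟨ξ, hξ.mem, rfl⟩))
    refine closure_minimal ?_ isClosed_closure
    rintro _ ⟨t, ht, rfl⟩
    exact ((hξ.specializes ht).map hf).mem_closure
  · refine ⟨isIrreducible_singleton.closure, fun S hS hsub => ?_⟩
    obtain ⟨s, hs⟩ := QuasiSober.sober hS.closure isClosed_closure
    have hs1 : s ⤳ f ξ := hs.specializes (subset_closure (hsub (subset_closure rfl)))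
    obtain ⟨x', hx', hfx⟩ := hg hs1
    have hsubT : T ⊆ closure {x'} := by
      rw [← hξ.def]
      exact hx'.closure_subset
    have h' := hT.2 isIrreducible_singleton.closure hsubT
    have hξx : ξ ⤳ x' := hξ.specializes (h' (subset_closure rfl))
    have hfs : f ξ ⤳ s := hfx ▸ hξx.map hf
    calc S ⊆ closure S := subset_closure
      _ = closure {s} := hs.def.symm
      _ ⊆ closure {f ξ} := hfs.closure_subset

theorem closure_image_irreducibleComponent_mem [QuasiSober X] [QuasiSober Y]
    {f : X → Y} (hf : Continuous f) (hg : GeneralizingMap f) {T : Set X}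
    (hT : T ∈ irreducibleComponents X) : closure (f '' T) ∈ irreducibleComponents Y := by
  obtain ⟨ξ, hξ⟩ := QuasiSober.sober hT.1 (isClosed_of_mem_irreducibleComponents T hT)
  obtain ⟨h1, h2⟩ := closure_singleton_image_mem_irreducibleComponents hf hg hT hξ
  exact h1 ▸ h2

theorem irreducibleComponents_locallyFinite [QuasiSober X] [QuasiSober Y] [T0Space Y]
    {f : X → Y} (hf : Continuous f) (hg : GeneralizingMap f) (hfin : ∀ y, (f ⁻¹' {y}).Finite)
    (hY : ∀ y : Y, ∃ U : Set Y, IsOpen U ∧ y ∈ U ∧
      {Z ∈ irreducibleComponents Y | (Z ∩ U).Nonempty}.Finite) (x : X) :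
    ∃ U : Set X, IsOpen U ∧ x ∈ U ∧ {T ∈ irreducibleComponents X | (T ∩ U).Nonempty}.Finite := by
  obtain ⟨U, hU, hxU, hUf⟩ := hY (f x)
  refine ⟨f ⁻¹' U, hU.preimage hf, hxU, ?_⟩
  have hA : {η : Y | closure {η} ∈ {Z ∈ irreducibleComponents Y | (Z ∩ U).Nonempty}}.Finite :=
    hUf.preimage (fun a _ b _ hab =>
      ((specializes_iff_closure_subset.mpr hab.ge).antisymm
        (specializes_iff_closure_subset.mpr hab.le)).eq)
  refine ((hA.biUnion fun η _ => hfin η).image fun ξ => closure {ξ}).subset ?_
  rintro T ⟨hT, t, htT, htU⟩
  obtain ⟨ξ, hξ⟩ := QuasiSober.sober hT.1 (isClosed_of_mem_irreducibleComponents T hT)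
  obtain ⟨-, h2⟩ := closure_singleton_image_mem_irreducibleComponents hf hg hT hξ
  exact ⟨ξ, mem_biUnion (x := f ξ)
    ⟨h2, f t, ((hξ.specializes htT).map hf).mem_closure, htU⟩ rfl, hξ.def⟩

end Groth.Agent.H06Topo
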