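import Mathlib

/-! Quasi-constructible sets, very dense subsets and quasi-homeomorphisms (EGA IV 10). -/

universe u v

set_option linter.style.haveILetI false

open TopologicalSpace Set Topology

namespace Groth.Agent.H06Topo

variable {X : Type u} {Y : Type v} [TopologicalSpace X] [TopologicalSpace Y]

/-- Finite union of locally closed subsets. -/
def IsQC (Z : Set X) : Prop :=
  ∃ T : Set (Set X), T.Finite ∧ (∀ t ∈ T, IsLocallyClosed t) ∧ Z = ⋃₀ T

/-- Locally quasi-constructible. -/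
def IsLQC (Z : Set X) : Prop :=
  ∀ x : X, ∃ U : Set X, IsOpen U ∧ x ∈ U ∧ IsQC (U ∩ Z)

theorem isLQC_iff {Z : Set X} : IsLQC Z ↔ ∀ x : X, ∃ U : Set X, IsOpen U ∧ x ∈ U ∧
    ∃ T : Set (Set X), T.Finite ∧ (∀ t ∈ T, IsLocallyClosed t) ∧ U ∩ Z = ⋃₀ T := Iff.rfl

theorem IsQC.of_lc {Z : Set X} (h : IsLocallyClosed Z) : IsQC Z :=
  ⟨{Z}, finite_singleton Z, by simpa using h, by simp⟩

theorem IsQC.of_open {Z : Set X} (h : IsOpen Z) : IsQC Z := .of_lc h.isLocallyClosed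

theorem IsQC.of_closed {Z : Set X} (h : IsClosed Z) : IsQC Z := .of_lc h.isLocallyClosed

theorem IsQC.empty : IsQC (∅ : Set X) := .of_open isOpen_empty

theorem IsQC.univ : IsQC (Set.univ : Set X) := .of_open isOpen_univ

theorem IsQC.union {A B : Set X} (hA : IsQC A) (hB : IsQC B) : IsQC (A ∪ B) := by
  obtain ⟨S, hS, hS', rfl⟩ := hA
  obtain ⟨T, hT, hT', rfl⟩ := hB
  exact ⟨S ∪ T, hS.union hT, fun t ht => ht.elim (hS' t) (hT' t), (sUnion_union S T).symm⟩

theorem IsQC.inter {A B : Set X} (hA : IsQC A) (hB : IsQC B) : IsQC (A ∩ B) := by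
  obtain ⟨S, hS, hS', rfl⟩ := hA
  obtain ⟨T, hT, hT', rfl⟩ := hB
  refine ⟨image2 (· ∩ ·) S T, hS.image2 _ hT, ?_, ?_⟩
  · rintro _ ⟨s, hs, t, ht, rfl⟩
    exact (hS' s hs).inter (hT' t ht)
  · ext x
    simp only [mem_inter_iff, mem_sUnion, mem_image2]
    constructor
    · rintro ⟨⟨s, hs, hxs⟩, t, ht, hxt⟩
      exact ⟨s ∩ t, ⟨s, hs, t, ht, rfl⟩, hxs, hxt⟩
    · rintro ⟨_, ⟨s, hs, t, ht, rfl⟩, hxs, hxt⟩
      exact ⟨⟨s, hs, hxs⟩, t, ht, hxt⟩

theorem IsQC.compl {A : Set X} (hA : IsQC A) : IsQC Aᶜ := by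
  obtain ⟨S, hS, hS', rfl⟩ := hA
  induction S, hS using Set.Finite.induction_on with
  | empty => simpa using IsQC.univ
  | insert ha hs ih =>
    rw [sUnion_insert, compl_union]
    refine IsQC.inter ?_ (ih fun t ht => hS' t (mem_insert_of_mem _ ht))
    obtain ⟨U, F, hU, hF, h⟩ := hS' _ (mem_insert _ _)
    rw [h, compl_inter]
    exact (IsQC.of_closed hU.isClosed_compl).union (IsQC.of_open hF.isOpen_compl)

theorem IsQC.sdiff {A B : Set X} (hA : IsQC A) (hB : IsQC B) : IsQC (A \ B) := hA.inter hB.compl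

theorem IsQC.sUnion {S : Set (Set X)} (hS : S.Finite) (h : ∀ s ∈ S, IsQC s) : IsQC (⋃₀ S) := by
  induction S, hS using Set.Finite.induction_on with
  | empty => simpa using IsQC.empty
  | insert ha hs ih =>
    rw [sUnion_insert]
    exact (h _ (mem_insert _ _)).union (ih fun t ht => h t (mem_insert_of_mem _ ht))

theorem IsQC.preimage {f : X → Y} (hf : Continuous f) {Z : Set Y} (hZ : IsQC Z) :
    IsQC (f ⁻¹' Z) := by
  obtain ⟨T, hT, hT', rfl⟩ := hZ
  refine ⟨(f ⁻¹' ·) '' T, hT.image _, ?_, by rw [preimage_sUnion, sUnion_image]⟩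
  rintro _ ⟨t, ht, rfl⟩
  exact (hT' t ht).preimage hf

theorem IsQC.exists_preimage {f : X → Y} (hf : IsInducing f) {Z : Set X} (hZ : IsQC Z) :
    ∃ Z' : Set Y, IsQC Z' ∧ f ⁻¹' Z' = Z := by
  obtain ⟨T, hT, hT', rfl⟩ := hZ
  induction T, hT using Set.Finite.induction_on with
  | empty => exact ⟨∅, .empty, by simp⟩
  | insert ha hs ih =>
    obtain ⟨Z₁, h₁, h₁'⟩ := ih fun t ht => hT' t (mem_insert_of_mem _ ht)
    obtain ⟨Z₂, h₂, h₂'⟩ := hf.isLocallyClosed_iff.mp (hT' _ (mem_insert _ _))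
    exact ⟨Z₂ ∪ Z₁, (IsQC.of_lc h₂).union h₁, by rw [preimage_union, h₁', h₂', sUnion_insert]⟩

theorem IsQC.image {f : X → Y} (hf : IsInducing f) (hr : IsQC (range f)) {Z : Set X}
    (hZ : IsQC Z) : IsQC (f '' Z) := by
  obtain ⟨Z', h1, rfl⟩ := hZ.exists_preimage hf
  rw [image_preimage_eq_inter_range]
  exact h1.inter hr

theorem isQC_preimage_val_iff {V : Set X} (hV : IsQC V) {Z : Set X} :
    IsQC (Subtype.val ⁻¹' Z : Set V) ↔ IsQC (V ∩ Z) := by
  constructor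
  · intro h
    have := IsQC.image IsInducing.subtypeVal (by rwa [Subtype.range_coe]) h
    rwa [Subtype.image_preimage_coe] at this
  · intro h
    have := h.preimage (f := (Subtype.val : V → X)) continuous_subtype_val
    convert this using 1
    ext x
    simp

theorem IsQC.isLQC {Z : Set X} (h : IsQC Z) : IsLQC Z := fun _ =>
  ⟨Set.univ, isOpen_univ, trivial, by rwa [univ_inter]⟩

theorem IsLQC.of_open {Z : Set X} (h : IsOpen Z) : IsLQC Z := (IsQC.of_open h).isLQC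

theorem IsLQC.inter {A B : Set X} (hA : IsLQC A) (hB : IsLQC B) : IsLQC (A ∩ B) := fun x => by
  obtain ⟨U, hU, hxU, hUA⟩ := hA x
  obtain ⟨V, hV, hxV, hVB⟩ := hB x
  refine ⟨U ∩ V, hU.inter hV, ⟨hxU, hxV⟩, ?_⟩
  rw [inter_inter_inter_comm]
  exact hUA.inter hVB

theorem IsLQC.sdiff {A B : Set X} (hA : IsLQC A) (hB : IsLQC B) : IsLQC (A \ B) := fun x => by
  obtain ⟨U, hU, hxU, hUA⟩ := hA x
  obtain ⟨V, hV, hxV, hVB⟩ := hB x
  refine ⟨U ∩ V, hU.inter hV, ⟨hxU, hxV⟩, ?_⟩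
  have : U ∩ V ∩ (A \ B) = (V ∩ (U ∩ A)) \ (V ∩ B) := by
    ext y
    simp only [mem_inter_iff, Set.mem_sdiff]
    tauto
  rw [this]
  exact ((IsQC.of_open hV).inter hUA).sdiff hVB

theorem IsLQC.preimage {f : X → Y} (hf : Continuous f) {Z : Set Y} (hZ : IsLQC Z) :
    IsLQC (f ⁻¹' Z) := fun x => by
  obtain ⟨U, hU, hxU, h⟩ := hZ (f x)
  exact ⟨f ⁻¹' U, hU.preimage hf, hxU, h.preimage hf⟩

/-- A subset meeting every nonempty locally closed set. -/
def IsVD (X₀ : Set X) : Prop :=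
  ∀ Z : Set X, IsLocallyClosed Z → Z.Nonempty → (Z ∩ X₀).Nonempty

theorem isVD_of_opens {X₀ : Set X}
    (h : ∀ U V : Set X, IsOpen U → IsOpen V → U ∩ X₀ = V ∩ X₀ → U = V) : IsVD X₀ := by
  rintro Z ⟨U, F, hU, hF, rfl⟩ ⟨z, hzU, hzF⟩
  rw [Set.nonempty_iff_ne_empty]
  intro he
  have h1 : (U ∪ Fᶜ) ∩ X₀ = Fᶜ ∩ X₀ := by
    ext y
    simp only [Set.eq_empty_iff_forall_notMem, mem_inter_iff] at he
    have := he y
    simp only [mem_inter_iff, mem_union, mem_compl_iff]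
    tauto
  have h2 := h _ _ (hU.union hF.isOpen_compl) hF.isOpen_compl h1
  exact (h2.le (Or.inl hzU) : z ∈ Fᶜ) hzF

theorem IsVD.qc {X₀ : Set X} (h : IsVD X₀) {Z : Set X} (hZ : IsQC Z) (hne : Z.Nonempty) :
    (Z ∩ X₀).Nonempty := by
  obtain ⟨T, -, hT', rfl⟩ := hZ
  obtain ⟨z, t, ht, hzt⟩ := hne
  obtain ⟨y, hy, hy0⟩ := h t (hT' t ht) ⟨z, hzt⟩
  exact ⟨y, ⟨t, ht, hy⟩, hy0⟩

theorem IsVD.lqc {X₀ : Set X} (h : IsVD X₀) {Z : Set X} (hZ : IsLQC Z) (hne : Z.Nonempty) :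
    (Z ∩ X₀).Nonempty := by
  obtain ⟨z, hz⟩ := hne
  obtain ⟨U, _, hzU, hUZ⟩ := hZ z
  exact (h.qc hUZ ⟨z, hzU, hz⟩).mono (inter_subset_inter_left _ inter_subset_right)

theorem IsVD.subset_closure {X₀ : Set X} (h : IsVD X₀) {Z : Set X} (hZ : IsLQC Z) :
    Z ⊆ closure (Z ∩ X₀) := by
  intro z hz
  rw [mem_closure_iff]
  intro W hW hzW
  obtain ⟨y, hy, hy0⟩ := h.lqc ((IsLQC.of_open hW).inter hZ) ⟨z, hzW, hz⟩
  exact ⟨y, hy.1, hy.2, hy0⟩

theorem IsVD.inj {X₀ : Set X} (h : IsVD X₀) {Z Z' : Set X} (hZ : IsLQC Z) (hZ' : IsLQC Z')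
    (he : Z ∩ X₀ = Z' ∩ X₀) : Z = Z' := by
  refine subset_antisymm (fun z hz => ?_) (fun z hz => ?_) <;> by_contra hz'
  · obtain ⟨y, ⟨hy, hy'⟩, hy0⟩ := h.lqc (hZ.sdiff hZ') ⟨z, hz, hz'⟩
    exact hy' (he.le ⟨hy, hy0⟩).1
  · obtain ⟨y, ⟨hy, hy'⟩, hy0⟩ := h.lqc (hZ'.sdiff hZ) ⟨z, hz, hz'⟩
    exact hy' (he.ge ⟨hy, hy0⟩).1

/-- Quasi-homeomorphism. -/
structure QH (f : X → Y) : Prop where
  continuous : Continuous f
  open_inj : ∀ U₁ U₂ : Set Y, IsOpen U₁ → IsOpen U₂ → f ⁻¹' U₁ = f ⁻¹' U₂ → U₁ = U₂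
  open_surj : ∀ V : Set X, IsOpen V → ∃ U : Set Y, IsOpen U ∧ f ⁻¹' U = V

theorem QH.of_bijective {f : X → Y} (hf : Continuous f)
    (h : Function.Bijective (fun U : Opens Y => (⟨f ⁻¹' U, U.isOpen.preimage hf⟩ : Opens X))) :
    QH f := by
  refine ⟨hf, fun U₁ U₂ h₁ h₂ he => ?_, fun V hV => ?_⟩
  · have := @h.1 ⟨U₁, h₁⟩ ⟨U₂, h₂⟩ (Opens.ext he)
    exact congrArg SetLike.coe this
  · obtain ⟨U, hU⟩ := h.2 ⟨V, hV⟩
    exact ⟨U, U.isOpen, congrArg SetLike.coe hU⟩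

theorem QH.bijective {f : X → Y} (h : QH f) :
    Function.Bijective (fun U : Opens Y => (⟨f ⁻¹' U, U.isOpen.preimage h.continuous⟩ : Opens X)) :=
  ⟨fun U V he => Opens.ext (h.open_inj _ _ U.isOpen V.isOpen (congrArg SetLike.coe he)),
    fun V => by
      obtain ⟨U, hU, hUV⟩ := h.open_surj V V.isOpen
      exact ⟨⟨U, hU⟩, Opens.ext hUV⟩⟩

theorem QH.isInducing {f : X → Y} (h : QH f) : IsInducing f := by
  refine ⟨le_antisymm h.continuous.le_induced fun V hV => ?_⟩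
  exact isOpen_induced_iff.mpr (h.open_surj V hV)

theorem QH.isVD_range {f : X → Y} (h : QH f) : IsVD (range f) :=
  isVD_of_opens fun U V hU hV he => h.open_inj U V hU hV (by
    rw [← preimage_inter_range, he, preimage_inter_range])

theorem QH.of_isVD {f : X → Y} (hi : IsInducing f) (hv : IsVD (range f)) : QH f :=
  ⟨hi.continuous, fun U₁ U₂ h₁ h₂ he => hv.inj (.of_open h₁) (.of_open h₂) (by
    rw [← image_preimage_eq_inter_range, he, image_preimage_eq_inter_range]),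
    fun _ hV => hi.isOpen_iff.mp hV⟩

theorem QH.inj {f : X → Y} (h : QH f) {Z Z' : Set Y} (hZ : IsLQC Z) (hZ' : IsLQC Z')
    (he : f ⁻¹' Z = f ⁻¹' Z') : Z = Z' :=
  h.isVD_range.inj hZ hZ' (by
    rw [← image_preimage_eq_inter_range, he, image_preimage_eq_inter_range])

theorem QH.lqc_surj {f : X → Y} (h : QH f) {Z₀ : Set X} (hZ₀ : IsLQC Z₀) :
    ∃ Z : Set Y, IsLQC Z ∧ f ⁻¹' Z = Z₀ := by
  choose V hV hxV hVZ using hZ₀
  choose U hU hUV using fun x => h.open_surj (V x) (hV x)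
  choose Q hQ hQV using fun x => (hVZ x).exists_preimage h.isInducing
  have hcov : ⋃ x, U x = Set.univ := h.open_inj _ _ (isOpen_iUnion hU) isOpen_univ (by
    rw [preimage_iUnion, preimage_univ, eq_univ_iff_forall]
    exact fun x => mem_iUnion.mpr ⟨x, by rw [hUV]; exact hxV x⟩)
  have key : ∀ x y, U x ∩ (U y ∩ Q y) = U y ∩ (U x ∩ Q x) := fun x y => by
    refine h.inj ((IsQC.of_open (hU x)).inter ((IsQC.of_open (hU y)).inter (hQ y))).isLQC
      ((IsQC.of_open (hU y)).inter ((IsQC.of_open (hU x)).inter (hQ x))).isLQC ?_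
    simp only [preimage_inter, hUV, hQV]
    ext z
    simp only [mem_inter_iff]
    tauto
  refine ⟨⋃ x, U x ∩ Q x, fun y => ?_, ?_⟩
  · obtain ⟨x, hx⟩ := mem_iUnion.mp (hcov.ge (mem_univ y))
    refine ⟨U x, hU x, hx, ?_⟩
    have : U x ∩ ⋃ y, U y ∩ Q y = U x ∩ Q x := by
      ext z
      simp only [mem_inter_iff, mem_iUnion]
      constructor
      · rintro ⟨hz, w, hw⟩
        exact ((key x w).le ⟨hz, hw⟩).2
      · exact fun hz => ⟨hz.1, x, hz⟩
    rw [this]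
    exact (IsQC.of_open (hU x)).inter (hQ x)
  · ext z
    simp only [preimage_iUnion, preimage_inter, hUV, hQV, mem_iUnion, mem_inter_iff]
    exact ⟨fun ⟨_, _, _, hz⟩ => hz, fun hz => ⟨z, hxV z, hxV z, hz⟩⟩

theorem QH.restrictPreimage {f : X → Y} (h : QH f) {Y' : Set Y} (hY' : IsLQC Y') :
    QH (Y'.restrictPreimage f) := by
  refine QH.of_isVD (h.isInducing.restrictPreimage Y') (isVD_of_opens fun U₁ U₂ h₁ h₂ he => ?_)
  obtain ⟨W₁, hW₁, rfl⟩ := isOpen_induced_iff.mp h₁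
  obtain ⟨W₂, hW₂, rfl⟩ := isOpen_induced_iff.mp h₂
  have : W₁ ∩ Y' = W₂ ∩ Y' := by
    refine h.inj ((IsLQC.of_open hW₁).inter hY') ((IsLQC.of_open hW₂).inter hY') ?_
    ext x
    simp only [mem_preimage, mem_inter_iff, and_congr_left_iff]
    intro hx
    have hr : Y'.restrictPreimage f ⟨x, hx⟩ ∈ range (Y'.restrictPreimage f) := mem_range_self _
    have := Set.ext_iff.mp he (Y'.restrictPreimage f ⟨x, hx⟩)
    simp only [mem_inter_iff, hr, and_true] at this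
    exact this
  exact Subtype.preimage_coe_eq_preimage_coe_iff.mpr (by rwa [inter_comm Y', inter_comm Y'])

theorem QH.isCompact_univ_iff {f : X → Y} (h : QH f) :
    IsCompact (Set.univ : Set Y) ↔ IsCompact (Set.univ : Set X) := by
  constructor
  · intro hc
    refine isCompact_iff_finite_subcover.mpr fun {ι} V hV hcov => ?_
    choose U hU hUV using fun i => h.open_surj (V i) (hV i)
    have hcovU : ⋃ i, U i = Set.univ := h.open_inj _ _ (isOpen_iUnion hU) isOpen_univ (by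
      simp only [preimage_iUnion, hUV, preimage_univ]
      exact univ_subset_iff.mp hcov)
    obtain ⟨t, ht⟩ := hc.elim_finite_subcover U hU hcovU.ge
    refine ⟨t, fun x _ => ?_⟩
    have := ht (mem_univ (f x))
    simp only [mem_iUnion] at this ⊢
    obtain ⟨i, hi, hxi⟩ := this
    exact ⟨i, hi, by rw [← hUV]; exact hxi⟩
  · intro hc
    refine isCompact_iff_finite_subcover.mpr fun {ι} U hU hcov => ?_
    obtain ⟨t, ht⟩ := hc.elim_finite_subcover (fun i => f ⁻¹' U i)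
      (fun i => (hU i).preimage h.continuous)
      (fun x _ => by simpa using hcov (mem_univ (f x)))
    refine ⟨t, (h.open_inj _ _ (isOpen_biUnion fun i _ => hU i) isOpen_univ ?_).ge⟩
    rw [preimage_univ, preimage_iUnion₂]
    exact univ_subset_iff.mp ht

theorem QH.isCompact_iff {f : X → Y} (h : QH f) {Y' : Set Y} (hY' : IsLQC Y') :
    IsCompact Y' ↔ IsCompact (f ⁻¹' Y') := by
  rw [isCompact_iff_isCompact_univ, (h.restrictPreimage hY').isCompact_univ_iff,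
    ← isCompact_iff_isCompact_univ]

theorem QH.noetherianSpace_iff {f : X → Y} (h : QH f) :
    NoetherianSpace Y ↔ NoetherianSpace X := by
  rw [noetherianSpace_iff_opens, noetherianSpace_iff_opens]
  constructor
  · intro hN V
    obtain ⟨U, hU, hUV⟩ := h.open_surj V V.isOpen
    rw [← hUV]
    exact (h.isCompact_iff (.of_open hU)).mp (hN ⟨U, hU⟩)
  · intro hN U
    exact (h.isCompact_iff (.of_open U.isOpen)).mpr (hN ⟨_, U.isOpen.preimage h.continuous⟩)

theorem QH.retrocompact_iff {f : X → Y} (h : QH f) {Y' : Set Y} (hY' : IsLQC Y') :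
    IsRetrocompact Y' ↔ IsRetrocompact (f ⁻¹' Y') := by
  constructor
  · intro hr V hc ho
    obtain ⟨U, hU, rfl⟩ := h.open_surj V ho
    rw [← preimage_inter]
    exact (h.isCompact_iff (hY'.inter (.of_open hU))).mp
      (hr ((h.isCompact_iff (.of_open hU)).mpr hc) hU)
  · intro hr U hc ho
    rw [h.isCompact_iff (hY'.inter (.of_open ho)), preimage_inter]
    exact hr ((h.isCompact_iff (.of_open ho)).mp hc) (ho.preimage h.continuous)

theorem isQC_of_isConstructible {Z : Set X} (hZ : IsConstructible Z) : IsQC Z := by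
  induction hZ using IsConstructible.empty_union_induction with
  | open_retrocompact U hU _ => exact .of_open hU
  | union s _ t _ h₁ h₂ => exact h₁.union h₂
  | compl s _ h₁ => exact h₁.compl

theorem QH.constructible_preimage {f : X → Y} (h : QH f) {Z : Set Y} (hZ : IsConstructible Z) :
    IsConstructible (f ⁻¹' Z) :=
  hZ.preimage h.continuous fun _ ho hr => (h.retrocompact_iff (.of_open ho)).mp hr

theorem QH.constructible_surj {f : X → Y} (h : QH f) {Z₀ : Set X} (hZ : IsConstructible Z₀) :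
    ∃ Z : Set Y, IsConstructible Z ∧ f ⁻¹' Z = Z₀ := by
  induction hZ using IsConstructible.empty_union_induction with
  | open_retrocompact V hV hr =>
    obtain ⟨U, hU, rfl⟩ := h.open_surj V hV
    exact ⟨U, ((h.retrocompact_iff (.of_open hU)).mpr hr).isConstructible hU, rfl⟩
  | union s _ t _ h₁ h₂ =>
    obtain ⟨Z₁, hZ₁, rfl⟩ := h₁
    obtain ⟨Z₂, hZ₂, rfl⟩ := h₂
    exact ⟨Z₁ ∪ Z₂, hZ₁.union hZ₂, rfl⟩
  | compl s _ h₁ =>
    obtain ⟨Z₁, hZ₁, rfl⟩ := h₁
    exact ⟨Z₁ᶜ, hZ₁.compl, rfl⟩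

theorem isLQC_of_isLocallyConstructible {Z : Set X} (hZ : IsLocallyConstructible Z) :
    IsLQC Z := fun x => by
  obtain ⟨U, hxU, hU, hUZ⟩ := hZ x
  exact ⟨U, hU, mem_of_mem_nhds hxU, (isQC_preimage_val_iff (.of_open hU)).mp
    (isQC_of_isConstructible hUZ)⟩

theorem QH.lconstructible_iff {f : X → Y} (h : QH f) {Z : Set Y} (hZ : IsLQC Z) :
    IsLocallyConstructible Z ↔ IsLocallyConstructible (f ⁻¹' Z) := by
  constructor
  · intro hc x
    obtain ⟨U, hxU, hU, hUZ⟩ := hc (f x)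
    exact ⟨f ⁻¹' U, h.continuous.continuousAt.preimage_mem_nhds hxU, hU.preimage h.continuous,
      (h.restrictPreimage (IsLQC.of_open hU)).constructible_preimage hUZ⟩
  · intro hc
    choose V hxV hV hVZ using hc
    choose U hU hUV using fun x => h.open_surj (V x) (hV x)
    have hcov : ⋃ x, U x = Set.univ := h.open_inj _ _ (isOpen_iUnion hU) isOpen_univ (by
      rw [preimage_iUnion, preimage_univ, eq_univ_iff_forall]
      exact fun x => mem_iUnion.mpr ⟨x, by rw [hUV]; exact mem_of_mem_nhds (hxV x)⟩)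
    intro y
    obtain ⟨x, hx⟩ := mem_iUnion.mp (hcov.ge (mem_univ y))
    refine ⟨U x, (hU x).mem_nhds hx, hU x, ?_⟩
    have hr := h.restrictPreimage (IsLQC.of_open (hU x))
    have h1 : IsConstructible ((U x).restrictPreimage f ⁻¹' (Subtype.val ⁻¹' Z)) := by
      have := hVZ x
      rw [← hUV] at this
      exact this
    obtain ⟨W, hW, hWe⟩ := hr.constructible_surj h1
    rwa [hr.inj (hZ.preimage continuous_subtype_val) (isQC_of_isConstructible hW).isLQC hWe.symm]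

theorem QH.lconstructible_surj {f : X → Y} (h : QH f) {Z₀ : Set X}
    (hZ : IsLocallyConstructible Z₀) :
    ∃ Z : Set Y, IsLocallyConstructible Z ∧ f ⁻¹' Z = Z₀ := by
  obtain ⟨Z, h1, rfl⟩ := h.lqc_surj (isLQC_of_isLocallyConstructible hZ)
  exact ⟨Z, (h.lconstructible_iff h1).mpr hZ, rfl⟩

theorem QH.of_cover {f : X → Y} (hf : Continuous f) {ι : Type*} (W : ι → Set Y)
    (hWo : ∀ i, IsOpen (W i)) (hWc : ⋃ i, W i = Set.univ)
    (h : ∀ i, QH ((W i).restrictPreimage f)) : QH f := by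
  refine ⟨hf, fun U₁ U₂ h₁ h₂ he => ?_, fun V hV => ?_⟩
  · ext y
    obtain ⟨i, hi⟩ := mem_iUnion.mp (hWc.ge (mem_univ y))
    have := (h i).open_inj (Subtype.val ⁻¹' U₁) (Subtype.val ⁻¹' U₂)
      (h₁.preimage continuous_subtype_val) (h₂.preimage continuous_subtype_val)
      (Set.ext fun x => Set.ext_iff.mp he x.1)
    exact Set.ext_iff.mp this ⟨y, hi⟩
  · choose U hU hUV using fun i => (h i).open_surj (Subtype.val ⁻¹' V)
      (hV.preimage continuous_subtype_val)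
    refine ⟨⋃ i, Subtype.val '' U i,
      isOpen_iUnion fun i => (hWo i).isOpenMap_subtype_val _ (hU i), ?_⟩
    ext x
    simp only [mem_preimage, mem_iUnion, mem_image]
    constructor
    · rintro ⟨i, ⟨y, hy⟩, hyU, hxy⟩
      have hxy : y = f x := hxy
      subst hxy
      exact Set.ext_iff.mp (hUV i) ⟨x, hy⟩ |>.mp hyU
    · intro hx
      obtain ⟨i, hi⟩ := mem_iUnion.mp (hWc.ge (mem_univ (f x)))
      exact ⟨i, ⟨f x, hi⟩, (Set.ext_iff.mp (hUV i) ⟨x, hi⟩).mpr hx, rfl⟩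

end Groth.Agent.H06Topo
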